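import Mathlib.Algebra.Module.LinearMap.Index
import Mathlib.RingTheory.Kaehler.Polynomial
import Mathlib.RingTheory.Kaehler.Basic
import Mathlib.RingTheory.Etale.Kaehler
import Mathlib.RingTheory.Smooth.Field
import Mathlib.RingTheory.Flat.Equalizer
import Mathlib.RingTheory.AlgebraicIndependent.TranscendenceBasis
import Mathlib.RingTheory.Etale.Basic
import Mathlib.FieldTheory.IntermediateField.Adjoin.Basic
import Mathlib.FieldTheory.IntermediateField.Adjoin.Algebra

/-! The index of `L ⊗_K Ω_{K/k} → Ω_{L/k}` for finitely generated field extensions (Cartier). -/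

universe u v

namespace Groth.Ega41Rank

open KaehlerDifferential TensorProduct Polynomial

/-- A linear map with finite kernel and cokernel. -/
def IsFred {L M N : Type*} [Field L] [AddCommGroup M] [Module L M] [AddCommGroup N] [Module L N] (f : M →ₗ[L] N) : Prop :=
  FiniteDimensional L (LinearMap.ker f) ∧ FiniteDimensional L (N ⧸ LinearMap.range f)

section Fred

variable {L M N P : Type*} [Field L] [AddCommGroup M] [Module L M] [AddCommGroup N] [Module L N]
  [AddCommGroup P] [Module L P] {f : M →ₗ[L] N} {g : N →ₗ[L] P}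

theorem IsFred.of_equiv (e : M ≃ₗ[L] N) : IsFred e.toLinearMap := by
  constructor
  · rw [LinearMap.ker_eq_bot.mpr e.injective]; infer_instance
  · haveI : Subsingleton (N ⧸ LinearMap.range e.toLinearMap) :=
      Submodule.Quotient.subsingleton_iff.mpr (LinearMap.range_eq_top.mpr e.surjective)
    infer_instance

theorem IsFred.comp (hf : IsFred f) (hg : IsFred g) :
    IsFred (g ∘ₗ f) ∧ (g ∘ₗ f).index = g.index + f.index := by
  obtain ⟨hf1, hf2⟩ := hf
  obtain ⟨hg1, hg2⟩ := hg
  haveI := hf1; haveI := hf2; haveI := hg1; haveI := hg2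
  refine ⟨⟨?_, ?_⟩, LinearMap.index_comp g⟩
  · rw [LinearMap.ker_comp]; infer_instance
  · rw [LinearMap.range_comp]; infer_instance

end Fred

section BaseChange

variable {K : Type u} (L : Type u) [Field K] [Field L] [Algebra K L] {M N : Type*} [AddCommGroup M] [Module K M]
  [AddCommGroup N] [Module K N] {f : M →ₗ[K] N}

theorem isFred_baseChange (hf : IsFred f) : IsFred (f.baseChange L) ∧ (f.baseChange L).index = f.index := by
  obtain ⟨h1, h2⟩ := hf
  haveI := h1; haveI := h2
  let ek : L ⊗[K] LinearMap.ker f ≃ₗ[L] LinearMap.ker (f.baseChange L) :=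
    LinearMap.tensorKerEquiv (R := K) L L f
  let π := (LinearMap.range f).mkQ
  have hex : Function.Exact (f.baseChange L) (π.baseChange L) :=
    lTensor_exact L (LinearMap.exact_map_mkQ_range f) (Submodule.mkQ_surjective _)
  have hs : Function.Surjective (π.baseChange L) := LinearMap.lTensor_surjective L (Submodule.mkQ_surjective _)
  let ec : ((L ⊗[K] N) ⧸ LinearMap.range (f.baseChange L)) ≃ₗ[L] L ⊗[K] (N ⧸ LinearMap.range f) :=
    (Submodule.quotEquivOfEq _ _ hex.linearMap_ker_eq.symm).trans ((π.baseChange L).quotKerEquivOfSurjective hs)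
  refine ⟨⟨Module.Finite.equiv ek, Module.Finite.equiv ec.symm⟩, ?_⟩
  rw [LinearMap.index_eq_finrank_sub, LinearMap.index_eq_finrank_sub, ← ek.finrank_eq, ec.finrank_eq,
    Module.finrank_baseChange, Module.finrank_baseChange]

end BaseChange

variable (k : Type v) [CommRing k]

/-- The conormal map of a simple algebraic extension does not vanish. -/
def Rigid (M : Type u) [Field M] [Algebra k M] : Prop :=
  ∀ (K : Type u) [Field K] [Algebra k K] [Algebra K M] [IsScalarTower k K M] [Algebra K[X] M]
    [IsScalarTower K K[X] M] [IsScalarTower k K[X] M], Function.Surjective (algebraMap K[X] M) →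
      kerCotangentToTensor k K[X] M ≠ 0

section Simple

variable (K : Type u) [Field K] [Algebra k K] (M : Type u) [Field M] [Algebra k M] [Algebra K M] [IsScalarTower k K M]
  [Algebra K[X] M] [IsScalarTower K K[X] M] [IsScalarTower k K[X] M]

/-- The first step: adjoining a variable. -/
theorem exists_alpha : ∃ α : M ⊗[K] Ω[K⁄k] →ₗ[M] M ⊗[K[X]] Ω[K[X]⁄k],
    mapBaseChange k K[X] M ∘ₗ α = mapBaseChange k K M ∧ IsFred α ∧ α.index = -1 := by
  let f := mapBaseChange k K K[X]
  let g := KaehlerDifferential.map k K K[X] K[X]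
  have hfg : Function.Exact f g := exact_mapBaseChange_map k K K[X]
  have hg : Function.Surjective g := map_surjective k K K[X]
  have hf : Function.Injective f := by
    rw [← LinearMap.ker_eq_bot, eq_bot_iff]
    intro x hx
    obtain ⟨y, rfl⟩ := (Algebra.H1Cotangent.exact_δ_mapBaseChange k K K[X] x).mp hx
    haveI : Subsingleton (Algebra.H1Cotangent K K[X]) := Algebra.FormallySmooth.subsingleton_h1Cotangent
    rw [Subsingleton.elim y 0, map_zero]; exact zero_mem _
  haveI : Module.Projective K[X] Ω[K[X]⁄K] := Module.Projective.of_equiv (polynomialEquiv K).symm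
  obtain ⟨s, hs⟩ := Module.projective_lifting_property g LinearMap.id hg
  obtain ⟨r, hr⟩ : ∃ r, r ∘ₗ f = LinearMap.id := by
    have h1 := (Function.Exact.split_tfae hfg hf hg).out 0 1
    exact h1.mp ⟨s, hs⟩
  let c : M ⊗[K] Ω[K⁄k] ≃ₗ[M] M ⊗[K[X]] (K[X] ⊗[K] Ω[K⁄k]) :=
    (AlgebraTensorModule.cancelBaseChange K K[X] M M Ω[K⁄k]).symm
  let α := (f.baseChange M) ∘ₗ c.toLinearMap
  refine ⟨α, ?_, ?_⟩
  · refine TensorProduct.AlgebraTensorModule.curry_injective ?_
    refine LinearMap.ext_ring (LinearMap.ext fun ω => ?_)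
    have hω : ω ∈ Submodule.span K (Set.range (D k K)) := by
      rw [KaehlerDifferential.span_range_derivation]; trivial
    induction hω using Submodule.span_induction with
    | mem w hw =>
        obtain ⟨b, rfl⟩ := hw
        simp [α, f, c, KaehlerDifferential.map_D]
        exact congrArg _ (IsScalarTower.algebraMap_apply K K[X] M b).symm
    | zero => simp
    | add a b _ _ ha hb => simp only [map_add, ha, hb]
    | smul r a _ ha => simp only [map_smul, ha]
  · have hinj : Function.Injective (f.baseChange M) := by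
      refine Function.LeftInverse.injective (g := r.baseChange M) fun x => ?_
      rw [← LinearMap.comp_apply, ← LinearMap.baseChange_comp, hr, LinearMap.baseChange_id, LinearMap.id_apply]
    have hs' : Function.Surjective (g.baseChange M) := LinearMap.lTensor_surjective M hg
    have hex : Function.Exact (f.baseChange M) (g.baseChange M) := lTensor_exact M hfg hg
    let e : ((M ⊗[K[X]] Ω[K[X]⁄k]) ⧸ LinearMap.range (f.baseChange M)) ≃ₗ[M] M :=
      ((Submodule.quotEquivOfEq _ _ hex.linearMap_ker_eq.symm).trans
        ((g.baseChange M).quotKerEquivOfSurjective hs')).trans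
        ((AlgebraTensorModule.congr (LinearEquiv.refl M M) (polynomialEquiv K)).trans
          (AlgebraTensorModule.rid K[X] M M))
    have hfred : IsFred (f.baseChange M) :=
      ⟨by rw [LinearMap.ker_eq_bot.mpr hinj]; infer_instance, Module.Finite.equiv e.symm⟩
    obtain ⟨h1, h2⟩ := (IsFred.of_equiv c).comp hfred
    refine ⟨h1, h2.trans ?_⟩
    rw [LinearEquiv.index_eq_zero, add_zero, LinearMap.index_of_injective hinj, e.finrank_eq, Module.finrank_self]
    rfl

theorem index_simple_surjective (h : Function.Surjective (algebraMap K[X] M)) :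
    IsFred (mapBaseChange k K M) ∧ (mapBaseChange k K M).index ≤ 0 ∧
      (Rigid k M → (mapBaseChange k K M).index = 0) := by
  obtain ⟨α, hα, hfred, hidx⟩ := exists_alpha k K M
  let β := mapBaseChange k K[X] M
  have hβ : Function.Surjective β := mapBaseChange_surjective k K[X] M h
  obtain ⟨g, hg⟩ := (IsPrincipalIdealRing.principal (RingHom.ker (algebraMap K[X] M))).principal
  have hgI : g ∈ RingHom.ker (algebraMap K[X] M) := hg ▸ Submodule.mem_span_singleton_self g
  let z : M ⊗[K[X]] Ω[K[X]⁄k] := 1 ⊗ₜ D k K[X] g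
  have hrange : ∀ x, kerCotangentToTensor k K[X] M x ∈ (M ∙ z) := by
    intro x
    obtain ⟨⟨x, hx⟩, rfl⟩ := Ideal.toCotangent_surjective _ x
    obtain ⟨c, rfl⟩ := Ideal.mem_span_singleton'.mp (by rw [hg] at hx; exact hx : x ∈ Ideal.span {g})
    rw [kerCotangentToTensor_toCotangent]
    refine Submodule.mem_span_singleton.mpr ⟨algebraMap K[X] M c, ?_⟩
    rw [Derivation.leibniz, TensorProduct.tmul_add, TensorProduct.tmul_smul, TensorProduct.tmul_smul,
      algebraMap_smul, ← algebraMap_smul M g ((1 : M) ⊗ₜ[K[X]] D k K[X] c), RingHom.mem_ker.mp hgI, zero_smul, add_zero]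
  have hker : LinearMap.ker β ≤ M ∙ z := fun x hx => by
    obtain ⟨y, rfl⟩ := (exact_kerCotangentToTensor_mapBaseChange k K[X] M h x).mp hx
    exact hrange y
  haveI : FiniteDimensional M (LinearMap.ker β) := Submodule.finiteDimensional_of_le hker
  have hle : Module.finrank M (LinearMap.ker β) ≤ 1 :=
    (Submodule.finrank_mono hker).trans ((finrank_span_le_card ({z} : Set _)).trans (by simp))
  have hβf : IsFred β := ⟨inferInstance, by
    haveI : Subsingleton (Ω[M⁄k] ⧸ LinearMap.range β) :=
      Submodule.Quotient.subsingleton_iff.mpr (LinearMap.range_eq_top.mpr hβ)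
    infer_instance⟩
  obtain ⟨h1, h2⟩ := hfred.comp hβf
  rw [hα] at h1 h2
  rw [hidx, LinearMap.index_of_surjective hβ] at h2
  refine ⟨h1, by omega, fun hr => ?_⟩
  have hne : Module.finrank M (LinearMap.ker β) ≠ 0 := fun h0 => hr K h (LinearMap.ext fun x => by
    have hb := Submodule.finrank_eq_zero.mp h0
    have : kerCotangentToTensor k K[X] M x ∈ LinearMap.ker β :=
      (exact_kerCotangentToTensor_mapBaseChange k K[X] M h _).mpr ⟨x, rfl⟩
    rwa [hb, Submodule.mem_bot] at this)
  omega

theorem index_simple_localization [IsFractionRing K[X] M] :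
    IsFred (mapBaseChange k K M) ∧ (mapBaseChange k K M).index = -1 := by
  obtain ⟨α, hα, hfred, hidx⟩ := exists_alpha k K M
  haveI : Algebra.FormallyEtale K[X] M := Algebra.FormallyEtale.of_isLocalization (nonZeroDivisors K[X])
  let e := tensorKaehlerEquivOfFormallyEtale k K[X] M
  have he : e.toLinearMap = mapBaseChange k K[X] M := rfl
  obtain ⟨h1, h2⟩ := hfred.comp (IsFred.of_equiv e)
  rw [LinearEquiv.index_eq_zero, zero_add] at h2
  rw [he, hα] at h1 h2
  exact ⟨h1, h2.trans hidx⟩

end Simple

section Tower

variable (K M L : Type u) [Field K] [Field M] [Field L] [Algebra k K] [Algebra k M] [Algebra k L]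
  [Algebra K M] [Algebra M L] [Algebra K L] [IsScalarTower k K M] [IsScalarTower k M L] [IsScalarTower k K L]
  [IsScalarTower K M L]

theorem index_tower (h1 : IsFred (mapBaseChange k K M)) (h2 : IsFred (mapBaseChange k M L)) :
    IsFred (mapBaseChange k K L) ∧
      (mapBaseChange k K L).index = (mapBaseChange k M L).index + (mapBaseChange k K M).index := by
  let c : L ⊗[K] Ω[K⁄k] ≃ₗ[L] L ⊗[M] (M ⊗[K] Ω[K⁄k]) :=
    (AlgebraTensorModule.cancelBaseChange K M L L Ω[K⁄k]).symm
  obtain ⟨hb, hb'⟩ := isFred_baseChange L h1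
  obtain ⟨hc, hc'⟩ := (IsFred.of_equiv c).comp hb
  obtain ⟨ha, ha'⟩ := hc.comp h2
  have hcomp : mapBaseChange k M L ∘ₗ ((mapBaseChange k K M).baseChange L ∘ₗ c.toLinearMap) = mapBaseChange k K L := by
    refine TensorProduct.AlgebraTensorModule.curry_injective ?_
    refine LinearMap.ext_ring (LinearMap.ext fun ω => ?_)
    have hω : ω ∈ Submodule.span K (Set.range (D k K)) := by
      rw [KaehlerDifferential.span_range_derivation]; trivial
    induction hω using Submodule.span_induction with
    | mem w hw =>
        obtain ⟨b, rfl⟩ := hw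
        simp [c, KaehlerDifferential.map_D, ← IsScalarTower.algebraMap_apply]
    | zero => simp
    | add a b _ _ ha hb => simp only [map_add, ha, hb]
    | smul r a _ ha => simp only [map_smul, ha]
  rw [hcomp] at ha ha'
  refine ⟨ha, ha'.trans ?_⟩
  rw [hc', LinearEquiv.index_eq_zero, add_zero, hb']

end Tower

open IntermediateField in
/-- A field generated by one element over `K`. -/
theorem index_simple (K M : Type u) [Field K] [Algebra k K] [Field M] [Algebra k M] [Algebra K M] [IsScalarTower k K M]
    (a : M) (ha : K⟮a⟯ = ⊤) :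
    IsFred (mapBaseChange k K M) ∧ ∃ d : ℕ, Algebra.trdeg K M = d ∧ (mapBaseChange k K M).index ≤ -(d : ℤ) ∧
      (Rigid k M → (mapBaseChange k K M).index = -(d : ℤ)) := by
  letI : Algebra K[X] M := (Polynomial.aeval a).toRingHom.toAlgebra
  haveI : IsScalarTower K K[X] M := IsScalarTower.of_algebraMap_eq fun x => (Polynomial.aeval_C a x).symm
  haveI : IsScalarTower k K[X] M := IsScalarTower.of_algebraMap_eq fun x => by
    rw [IsScalarTower.algebraMap_apply k K K[X], ← IsScalarTower.algebraMap_apply K K[X] M,
      ← IsScalarTower.algebraMap_apply]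
  by_cases hal : IsAlgebraic K a
  · have htop : Algebra.adjoin K {a} = ⊤ := by
      rw [← IntermediateField.adjoin_simple_toSubalgebra_of_isAlgebraic hal, ha, IntermediateField.top_toSubalgebra]
    have hs : Function.Surjective (algebraMap K[X] M) := fun x => by
      have hx : x ∈ Algebra.adjoin K {a} := htop ▸ trivial
      rw [Algebra.adjoin_singleton_eq_range_aeval] at hx
      exact hx
    haveI : Algebra.IsAlgebraic K M := by
      haveI := IntermediateField.isAlgebraic_adjoin_simple hal.isIntegral
      exact ((IntermediateField.equivOfEq ha).trans IntermediateField.topEquiv).isAlgebraic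
    obtain ⟨h1, h2, h3⟩ := index_simple_surjective k K M hs
    exact ⟨h1, 0, by rw [trdeg_eq_zero, Nat.cast_zero], by simpa using h2, fun hr => by simpa using h3 hr⟩
  · have hinj : Function.Injective (algebraMap K[X] M) := transcendental_iff_injective.mp hal
    haveI : FaithfulSMul K[X] M := (faithfulSMul_iff_algebraMap_injective _ _).mpr hinj
    haveI : IsFractionRing K[X] M := IsFractionRing.of_field K[X] M fun z => by
      have hz : z ∈ K⟮a⟯ := ha ▸ trivial
      rw [IntermediateField.mem_adjoin_simple_iff] at hz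
      obtain ⟨r, s, rfl⟩ := hz
      exact ⟨r, s, rfl⟩
    haveI : Algebra.IsAlgebraic K[X] M := IsLocalization.isAlgebraic M (nonZeroDivisors K[X])
    obtain ⟨h1, h2⟩ := index_simple_localization k K M
    refine ⟨h1, 1, ?_, h2.le, fun _ => h2⟩
    rw [← trdeg_add_eq K K[X] (A := M), Polynomial.trdeg_of_isDomain, trdeg_eq_zero, add_zero, Nat.cast_one]

open IntermediateField in
/-- Cartier's inequality, with equality for rigid extensions. -/
theorem index_adjoin (L : Type u) [Field L] [Algebra k L] : ∀ (n : ℕ) (K : Type u) [Field K] [Algebra k K] [Algebra K L] [IsScalarTower k K L]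
    (s : Finset L), s.card ≤ n → IntermediateField.adjoin K (s : Set L) = ⊤ →
    IsFred (mapBaseChange k K L) ∧ ∃ d : ℕ, Algebra.trdeg K L = d ∧ (mapBaseChange k K L).index ≤ -(d : ℤ) ∧
      ((∀ (M : Type u) [Field M] [Algebra k M] [Algebra M L] [IsScalarTower k M L], Rigid k M) →
        (mapBaseChange k K L).index = -(d : ℤ)) := by
  classical
  intro n
  induction n with
  | zero =>
    intro K _ _ _ _ s hs htop
    obtain ⟨h1, d, h2, h3, h4⟩ := index_simple k K L (0 : L) (by
      rw [eq_top_iff, ← htop, Finset.card_eq_zero.mp (Nat.le_zero.mp hs), Finset.coe_empty, IntermediateField.adjoin_empty]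
      exact bot_le)
    exact ⟨h1, d, h2, h3, fun hr => h4 (hr L)⟩
  | succ n ih =>
    intro K _ _ _ _ s hs htop
    by_cases hse : s.card ≤ n
    · exact ih K s hse htop
    obtain ⟨a, has⟩ := Finset.card_pos.mp (by omega : 0 < s.card)
    let M : IntermediateField K L := K⟮a⟯
    have htopM : IntermediateField.adjoin M ((s.erase a : Finset L) : Set L) = ⊤ := by
      apply IntermediateField.restrictScalars_injective K
      rw [IntermediateField.restrictScalars_top, IntermediateField.adjoin_adjoin_left, eq_top_iff, ← htop]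
      refine IntermediateField.adjoin.mono K _ _ fun x hx => ?_
      by_cases hxa : x = a
      · exact Or.inl hxa
      · exact Or.inr (Finset.mem_erase.mpr ⟨hxa, hx⟩)
    haveI : IsScalarTower k M L := IsScalarTower.of_algebraMap_eq fun x => by
      rw [IsScalarTower.algebraMap_apply k K L, IsScalarTower.algebraMap_apply k K M]; rfl
    obtain ⟨h2, d₂, ht2, hi2, he2⟩ := ih M (s.erase a) (by rw [Finset.card_erase_of_mem has]; omega) htopM
    obtain ⟨h1, d₁, ht1, hi1, he1⟩ := index_simple k K M ⟨a, IntermediateField.mem_adjoin_simple_self K a⟩ (by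
      apply IntermediateField.map_injective M.val
      rw [IntermediateField.adjoin_map, Set.image_singleton, ← AlgHom.fieldRange_eq_map, IntermediateField.fieldRange_val]
      rfl)
    obtain ⟨h, hidx⟩ := index_tower k K M L h1 h2
    refine ⟨h, d₁ + d₂, ?_, by rw [hidx]; push_cast; omega, fun hr => ?_⟩
    · rw [← trdeg_add_eq K M (A := L), ht1, ht2, Nat.cast_add]
    · rw [hidx, he2 hr, he1 (hr M)]; push_cast; omega

/-- The index for essentially finitely generated field extensions. -/
theorem index_essFiniteType (K L : Type u) [Field K] [Field L] [Algebra k K] [Algebra k L] [Algebra K L]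
    [IsScalarTower k K L] [Algebra.EssFiniteType K L] :
    IsFred (mapBaseChange k K L) ∧ ∃ d : ℕ, Algebra.trdeg K L = d ∧ (mapBaseChange k K L).index ≤ -(d : ℤ) ∧
      ((∀ (M : Type u) [Field M] [Algebra k M] [Algebra M L] [IsScalarTower k M L], Rigid k M) →
        (mapBaseChange k K L).index = -(d : ℤ)) := by
  obtain ⟨s, hs⟩ := IntermediateField.fg_top K L
  exact index_adjoin k L _ K s le_rfl hs

/-- The cokernel of `mapBaseChange`. -/
noncomputable def cokerEquiv (K L : Type u) [Field K] [Field L] [Algebra k K] [Algebra k L] [Algebra K L]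
    [IsScalarTower k K L] : (Ω[L⁄k] ⧸ LinearMap.range (mapBaseChange k K L)) ≃ₗ[L] Ω[L⁄K] :=
  (Submodule.quotEquivOfEq _ _ (exact_mapBaseChange_map k K L).linearMap_ker_eq.symm).trans
    ((KaehlerDifferential.map k K L L).quotKerEquivOfSurjective (map_surjective k K L))

end Groth.Ega41Rank
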