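import Groth.Agent.Ega41Rank.Index
import Groth.Agent.Ega41SymGr.PrimeField
import Mathlib.RingTheory.Smooth.Basic

/-! Rigidity over the integers: the conormal map of a simple algebraic extension is non-zero. -/

universe u v

namespace Groth.Ega41Rank

open KaehlerDifferential Polynomial

/-- Over a base over which the field is formally smooth, the conormal map does not vanish. -/
theorem kerCotangentToTensor_ne_zero {F : Type v} [CommRing F] {K M : Type u} [Field K] [Field M] [Algebra F K[X]]
    [Algebra F M] [Algebra K[X] M] [IsScalarTower F K[X] M] [Algebra.FormallySmooth F K[X]] [Algebra.FormallySmooth F M]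
    (h : Function.Surjective (algebraMap K[X] M)) : kerCotangentToTensor F K[X] M ≠ 0 := by
  intro h0
  obtain ⟨l, hl⟩ := (Algebra.FormallySmooth.iff_split_injection (R := F) h).mp inferInstance
  have hzero : ∀ y : (RingHom.ker (algebraMap K[X] M)).Cotangent, y = 0 := fun y => by
    have h1 := LinearMap.congr_fun hl y
    rw [LinearMap.comp_apply, h0, LinearMap.zero_apply, map_zero, LinearMap.id_apply] at h1
    exact h1.symm
  obtain ⟨g, hg⟩ := (IsPrincipalIdealRing.principal (RingHom.ker (algebraMap K[X] M))).principal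
  have hgI : g ∈ RingHom.ker (algebraMap K[X] M) := hg ▸ Submodule.mem_span_singleton_self g
  have h2 := (Ideal.toCotangent_eq_zero _ ⟨g, hgI⟩).mp (hzero _)
  change g ∈ _ at h2
  rw [pow_two, hg, Ideal.submodule_span_eq, Ideal.span_singleton_mul_span_singleton, Ideal.mem_span_singleton'] at h2
  obtain ⟨c, hc⟩ := h2
  have hg0 : g ≠ 0 := fun h0 => Polynomial.not_isField K (by
    have hinj : Function.Injective (algebraMap K[X] M) := by
      rw [RingHom.injective_iff_ker_eq_bot, hg, h0, Submodule.span_zero_singleton]
    exact (RingEquiv.ofBijective _ ⟨hinj, h⟩).toMulEquiv.isField (Field.toIsField M))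
  have hu : IsUnit g := IsUnit.of_mul_eq_one c (mul_right_cancel₀ hg0 (by rw [one_mul, mul_comm g c, mul_assoc]; exact hc))
  exact RingHom.ker_ne_top (algebraMap K[X] M) (Ideal.eq_top_of_isUnit_mem _ hgI hu)

/-- Rigidity over the integers. -/
theorem rigid_int (M : Type u) [Field M] : Rigid ℤ M := by
  intro K _ _ _ _ _ _ _ hs h0
  obtain ⟨F, _, _, hFK, hD, hFS⟩ := Groth.Ega41SymGr.exists_primeField_D K
  letI : Algebra F M := ((algebraMap K M).comp (algebraMap F K)).toAlgebra
  haveI : IsScalarTower F K M := IsScalarTower.of_algebraMap_eq fun _ => rfl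
  haveI := hFK
  haveI := hFS M
  haveI : IsScalarTower F K[X] M := IsScalarTower.of_algebraMap_eq fun x => by
    rw [IsScalarTower.algebraMap_apply F K K[X], ← IsScalarTower.algebraMap_apply K K[X] M]
    rfl
  haveI : Algebra.FormallySmooth F K[X] := Algebra.FormallySmooth.comp F K K[X]
  haveI : @IsScalarTower ℤ F K[X] Algebra.toSMul _ (Algebra.toSMul (R := ℤ) (A := K[X])) :=
    IsScalarTower.of_algebraMap_eq' (RingHom.ext_int _ _)
  refine kerCotangentToTensor_ne_zero (F := F) hs (LinearMap.ext fun y => ?_)
  obtain ⟨x, rfl⟩ := Ideal.toCotangent_surjective _ y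
  have h1 := LinearMap.congr_fun h0 (Ideal.toCotangent _ x)
  rw [kerCotangentToTensor_toCotangent, LinearMap.zero_apply] at h1
  rw [kerCotangentToTensor_toCotangent, LinearMap.zero_apply]
  have h2 := congrArg ((KaehlerDifferential.map ℤ F K[X] K[X]).baseChange M) h1
  rwa [LinearMap.baseChange_tmul, map_D, map_zero] at h2

end Groth.Ega41Rank
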